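import Cfsg.Agent.LocalEven.NaturalEmb.Main
import Cfsg.Agent.SolvStruct.AltEight.Main

/-!
The field of four elements: the alternating group of degree seven appears.
-/

set_option autoImplicit false
set_option linter.unusedSectionVars false
set_option linter.style.haveILetI false

namespace Cfsg.Lib.LocalEven.NaturalEmb

open Subgroup Matrix
open Cfsg.Lib.Misc.NaturalSL2 (up coe_up up_add)

variable {F : Type*} [Field F]

/-- over four elements a homomorphism of the special linear group into a commutative group is trivial -/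
theorem comm_target_trivial [Finite F] (hF : Nat.card F = 4) {A : Type*} [CommMonoid A]
    (χ : Matrix.SpecialLinearGroup (Fin 2) F →* A) (B : Matrix.SpecialLinearGroup (Fin 2) F) : χ B = 1 := by
  classical
  haveI := Fintype.ofFinite F
  rw [Nat.card_eq_fintype_card] at hF
  obtain ⟨a, ha0, ha1⟩ : ∃ a : F, a ≠ 0 ∧ a * a ≠ 1 := by
    by_contra hc
    push Not at hc
    have hsub : (Finset.univ : Finset F) ⊆ {0, 1, -1} := fun x _ => by
      by_cases hx : x = 0
      · simp [hx]
      · rcases mul_self_eq_one_iff.1 (hc x hx) with h | h <;> simp [h]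
    have := (Finset.card_le_card hsub).trans Finset.card_le_three
    rw [Finset.card_univ, hF] at this
    omega
  have hconj : ∀ (u v : Matrix.SpecialLinearGroup (Fin 2) F), χ (u * v * u⁻¹) = χ v := fun u v => by
    rw [map_mul, map_mul, mul_right_comm, ← map_mul, mul_inv_cancel, map_one, one_mul]
  have hne : a * a - 1 ≠ 0 := sub_ne_zero.2 ha1
  have hup : ∀ b, χ (up b) = 1 := by
    intro b
    obtain ⟨x, hx⟩ : ∃ x : F, a * a * x = b + x := ⟨b / (a * a - 1), by linear_combination div_mul_cancel₀ b hne⟩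
    set d := Cfsg.Lib.Misc.NaturalSL2.diag a ha0
    have e : d * up x * d⁻¹ = up b * up x := by
      rw [← up_add, mul_inv_eq_iff_eq_mul]
      refine Subtype.ext ?_
      rw [Matrix.SpecialLinearGroup.coe_mul, Matrix.SpecialLinearGroup.coe_mul]
      have hd : (d : Matrix (Fin 2) (Fin 2) F) = !![a, 0; 0, a⁻¹] := rfl
      rw [hd, coe_up, coe_up]
      ext i j
      fin_cases i <;> fin_cases j <;> simp [Matrix.mul_apply, Fin.sum_univ_two]
      field_simp
      linear_combination hx
    have h1 := hconj d (up x)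
    rw [e, map_mul] at h1
    have h2 : χ (up x) * χ (up (-x)) = 1 := by rw [← map_mul, ← up_add, add_neg_cancel, up_zero', map_one]
    calc χ (up b) = χ (up b) * (χ (up x) * χ (up (-x))) := by rw [h2, mul_one]
      _ = 1 := by rw [← mul_assoc, h1, h2]
  let C : Subgroup (Matrix.SpecialLinearGroup (Fin 2) F) := χ.ker
  refine MonoidHom.mem_ker.1 (mem_of_up_low C (fun x => MonoidHom.mem_ker.2 (hup x)) (fun x => MonoidHom.mem_ker.2 ?_) B)
  rw [show low x = wey * up (-x) * wey⁻¹ by rw [conj_wey, neg_neg], hconj, hup]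
where
  up_zero' : (up (0 : F)) = 1 := Subtype.ext (by ext i j; fin_cases i <;> fin_cases j <;> simp [coe_up])

namespace Emb

variable {p : ℕ} {Γ : Type*} [Group Γ] [DistribMulAction Γ (Fin 2 → F)] (E : Emb p F Γ)
variable [Fact p.Prime] [CharP F p] [Finite Γ] [Finite F]
include E

/-- commuting with the special linear group means acting by a scalar -/
theorem scalar_of_comm {g : Γ} (hg : ∀ A, g * E.sl A = E.sl A * g) : ∃ c : F, ∀ v : Fin 2 → F, g • v = c • v := by
  have hA : ∀ (A : Matrix.SpecialLinearGroup (Fin 2) F) (v : Fin 2 → F), E.sl A • g • v = g • E.sl A • v :=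
    fun A v => by rw [← mul_smul, ← mul_smul, hg]
  have h0 : ∀ x : F, (g • (![x, 0] : Fin 2 → F)) 1 = 0 := fun x => by
    have h1 := congrFun (hA (up 1) ![x, 0]) 0
    rw [E.up_smul 1 ![x, 0], E.up_smul] at h1
    simpa using h1
  have h0' : ∀ y : F, (g • (![0, y] : Fin 2 → F)) 0 = 0 := fun y => by
    have h1 := congrFun (hA (low 1) ![0, y]) 1
    rw [E.low_smul 1 ![0, y], E.low_smul] at h1
    simpa using h1
  have hal : ∀ b y : F, al g (b * y) = b * (g • (![0, y] : Fin 2 → F)) 1 := fun b y => by
    have h1 := congrFun (hA (up b) ![0, y]) 0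
    rw [E.up_smul b ![0, y], E.up_smul, show ((![(![0, y] : Fin 2 → F) 0 + b * (![0, y] : Fin 2 → F) 1,
      (![0, y] : Fin 2 → F) 1]) : Fin 2 → F) = ![b * y, 0] + ![0, y] by simp, smul_add] at h1
    simp [h0'] at h1
    rw [al, ← h1]
  refine ⟨(g • (![0, 1] : Fin 2 → F)) 1, fun v => ?_⟩
  conv_lhs => rw [split v, smul_add]
  set c := (g • (![0, 1] : Fin 2 → F)) 1
  have e1 : ∀ x, al g x = x * c := fun x => by simpa using hal x 1
  have e2 : ∀ y, (g • (![0, y] : Fin 2 → F)) 1 = y * c := fun y => by
    rw [← e1, ← one_mul ((g • (![0, y] : Fin 2 → F)) 1), ← hal, one_mul]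
  funext i
  fin_cases i
  · show (g • (![v 0, 0] : Fin 2 → F)) 0 + (g • (![0, v 1] : Fin 2 → F)) 0 = c * v 0
    rw [h0', add_zero, show (g • (![v 0, 0] : Fin 2 → F)) 0 = al g (v 0) from rfl, e1, mul_comm]
  · show (g • (![v 0, 0] : Fin 2 → F)) 1 + (g • (![0, v 1] : Fin 2 → F)) 1 = c * v 1
    rw [h0, zero_add, e2, mul_comm]

theorem card_range (hF : Nat.card F = 4) : Nat.card E.sl.range = 60 := by
  haveI := Fintype.ofFinite F
  rw [Nat.card_eq_fintype_card] at hF
  have h := Cfsg.Lib.Classical.card_SL_mul_eq_prod (F := F) (n := 2) (by norm_num)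
  rw [hF, Fin.prod_univ_two] at h
  rw [← Nat.card_congr (MonoidHom.ofInjective E.sl_injective).toEquiv]
  norm_num at h
  omega

/-- a normal subgroup of prime order forces normality -/
theorem normal_of_prime_normal (hF : Nat.card F = 4) (W : Subgroup Γ) [W.Normal] {r : ℕ} [Fact r.Prime]
    (hW : Nat.card W = r) : E.sl.range.Normal := by
  classical
  haveI : IsCyclic W := isCyclic_of_prime_card hW
  letI : CommGroup (MulAut W) :=
    { (inferInstance : Group (MulAut W)) with
      mul_comm := fun a b => (IsCyclic.mulAutMulEquiv W).injective ((map_mul _ a b).trans ((mul_comm _ _).trans (map_mul _ b a).symm)) }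
  let χ : Matrix.SpecialLinearGroup (Fin 2) F →* MulAut W := (MulAut.conjNormal (H := W)).comp E.sl
  have hcomm : ∀ w ∈ W, ∀ A, w * E.sl A = E.sl A * w := by
    intro w hw A
    have h1 := congrArg Subtype.val (DFunLike.congr_fun (comm_target_trivial hF χ A) ⟨w, hw⟩)
    simp only [χ, MonoidHom.coe_comp, Function.comp_apply, MulAut.conjNormal_apply, MulAut.one_apply] at h1
    exact (mul_inv_eq_iff_eq_mul.1 h1).symm
  obtain ⟨⟨w, hw⟩, hw1⟩ : ∃ w : W, w ≠ 1 := by
    haveI : Nontrivial W := Finite.one_lt_card_iff_nontrivial.1 (hW ▸ (Fact.out : r.Prime).one_lt)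
    exact exists_ne 1
  have hw1' : w ≠ 1 := fun h => hw1 (Subtype.ext h)
  obtain ⟨c, hc⟩ := E.scalar_of_comm (hcomm w hw)
  have hc0 : c ≠ 0 := by
    rintro rfl
    have := hc ![1, 0]
    rw [zero_smul, smul_eq_zero_iff_eq] at this
    simpa using congrFun this 0
  have hc1 : c ≠ 1 := fun h => hw1' (E.faith w fun v => by rw [hc, h, one_smul])
  have hgen : ∀ x : F, x = 0 ∨ x = 1 ∨ x = c ∨ x = c + 1 := by
    intro x
    haveI := Fintype.ofFinite F
    by_contra hx
    push Not at hx
    obtain ⟨hx0, hx1, hxc, hxc1⟩ := hx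
    have h5 : ({0, 1, c, c + 1, x} : Finset F).card ≤ 4 := by
      rw [← hF, Nat.card_eq_fintype_card]; exact Finset.card_le_univ _
    have hc1' : c + 1 ≠ 1 := by simpa using hc0
    have hc2 : c + 1 ≠ c := by simp
    have hcm : c + 1 ≠ 0 := fun h => by
      have h2 : (4 : F) = 0 := by
        have := FiniteField.cast_card_eq_zero F
        rw [← Nat.card_eq_fintype_card, hF] at this
        exact_mod_cast this
      have h2' : (2 : F) = 0 := by
        have : (2 : F) * 2 = 0 := by rw [← h2]; norm_num
        exact mul_self_eq_zero.1 this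
      exact hc1 (by linear_combination h - h2')
    rw [Finset.card_insert_of_notMem, Finset.card_insert_of_notMem, Finset.card_insert_of_notMem,
      Finset.card_insert_of_notMem, Finset.card_singleton] at h5
    · omega
    · simpa using hxc1.symm
    · simp [hxc.symm, hc2.symm]
    · simp [hx1.symm, hc1.symm, hc1'.symm]
    · simp [hx0.symm, hc0.symm, hcm.symm]
  refine ⟨fun n hn g => ?_⟩
  obtain ⟨A, rfl⟩ := hn
  -- the conjugates commute with the scalar
  have hlin : ∀ (B : Matrix.SpecialLinearGroup (Fin 2) F) (x : F) (v : Fin 2 → F),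
      (g * E.sl B * g⁻¹) • (x • v) = x • ((g * E.sl B * g⁻¹) • v) := by
    intro B x v
    have h1 : w * (g * E.sl B * g⁻¹) = (g * E.sl B * g⁻¹) * w := by
      have h2 := hcomm _ ((inferInstance : W.Normal).conj_mem w hw g⁻¹) B
      rw [inv_inv] at h2
      calc w * (g * E.sl B * g⁻¹) = g * (g⁻¹ * w * g * E.sl B) * g⁻¹ := by group
        _ = g * (E.sl B * (g⁻¹ * w * g)) * g⁻¹ := by rw [h2]
        _ = (g * E.sl B * g⁻¹) * w := by group
    set h := g * E.sl B * g⁻¹
    have hcv : ∀ v : Fin 2 → F, h • (c • v) = c • (h • v) := fun v => by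
      rw [← hc, ← hc, ← mul_smul, ← mul_smul, h1]
    rcases hgen x with rfl | rfl | rfl | rfl
    · simp
    · simp
    · exact hcv v
    · rw [add_smul, add_smul, smul_add, one_smul, one_smul, hcv]
  let D : Matrix.SpecialLinearGroup (Fin 2) F → Matrix (Fin 2) (Fin 2) F := fun B =>
    Matrix.of fun i j => ((g * E.sl B * g⁻¹) • (Pi.single j 1 : Fin 2 → F)) i
  have hD : ∀ B v, D B *ᵥ v = (g * E.sl B * g⁻¹) • v := by
    intro B v
    conv_rhs => rw [show v = v 0 • (Pi.single 0 1 : Fin 2 → F) + v 1 • Pi.single 1 1 by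
      funext i; fin_cases i <;> simp, smul_add, hlin, hlin]
    funext i
    simp [D, mulVec, dotProduct, Fin.sum_univ_two]
    ring
  let χ' : Matrix.SpecialLinearGroup (Fin 2) F →* F :=
    { toFun := fun B => (D B).det
      map_one' := by
        rw [show D 1 = 1 from Matrix.ext_of_mulVec_single fun j => by rw [hD, map_one, mul_one, mul_inv_cancel, one_smul, one_mulVec]]
        exact det_one
      map_mul' := fun B B' => by
        rw [← det_mul, show D (B * B') = D B * D B' from Matrix.ext_of_mulVec_single fun j => by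
          rw [hD, ← Matrix.mulVec_mulVec, hD, hD, ← mul_smul, map_mul]
          congr 1
          group] }
  refine ⟨⟨D A, comm_target_trivial hF χ' A⟩, ?_⟩
  refine inv_mul_eq_one.1 (E.faith _ fun v => ?_)
  rw [mul_smul, inv_smul_eq_iff]
  exact (hD A v).symm.trans (E.hsl ⟨D A, comm_target_trivial hF χ' A⟩ v).symm

/-- the Sylow subgroup has order at most eight -/
theorem card_T_le (hp : p = 2) (hF : Nat.card F = 4) : Nat.card E.T ≤ 8 := by
  subst hp
  classical
  haveI := Fintype.ofFinite F
  have hpow : ∀ (h : E.T), ∃ n : ℕ, (h : Γ) ^ (2 ^ n) = 1 := fun h => by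
    obtain ⟨n, hn⟩ := E.hTp h
    exact ⟨n, by simpa using congrArg Subtype.val hn⟩
  have huni : ∀ (a : F) (n : ℕ), a ^ (2 ^ n) = 1 → a = 1 := fun a n ha =>
    sub_eq_zero.1 (eq_zero_of_pow_eq_zero (n := 2 ^ n) (by rw [sub_pow_char_pow, ha, one_pow, sub_self]))
  have hid : ∀ h (hh : h ∈ E.T), (∀ x, E.sig h hh x = x) → h ∈ E.U := by
    intro h hh hs
    obtain ⟨n, hn⟩ := hpow ⟨h, hh⟩
    have hst := E.T_le_st hh
    have hx : ∀ x : F, al h x = al h 1 * x := fun x => by rw [E.al_eq_sig hh, hs]
    have hi : ∀ i : ℕ, (h ^ i) • (![1, 0] : Fin 2 → F) = ![al h 1 ^ i, 0] := by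
      intro i
      induction i with
      | zero => simp
      | succ i ih => rw [pow_succ', mul_smul, ih, E.al_eq hst, hx, pow_succ']
    have ha : al h (1 : F) = 1 := huni _ n (by
      have := congrFun (hi (2 ^ n)) 0
      rw [hn, one_smul] at this
      simpa using this.symm)
    have hfix : ∀ v : Fin 2 → F, v 1 = 0 → h • v = v := fun v hv => by
      rw [fix_line v hv, E.al_eq hst, hx, ha, one_mul]
    refine E.fl_le_U ⟨hfix, ?_⟩
    -- the action on the quotient
    have hde : ∀ (k : Γ), k ∈ E.T → ∀ v : Fin 2 → F, (k • v) 1 = (k • (![0, v 1] : Fin 2 → F)) 1 := fun k hk v => by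
      conv_lhs => rw [split v, smul_add, E.al_eq (E.T_le_st hk)]
      simp
    have hlin : ∀ z : F, (h • (![0, z] : Fin 2 → F)) 1 = z * (h • (![0, 1] : Fin 2 → F)) 1 := by
      intro z
      have key : ∀ b : F, ∃ b', ∀ z : F, al h (b * z) = b' * (h • (![0, z] : Fin 2 → F)) 1 := by
        intro b
        obtain ⟨b', hb'⟩ := E.mem_U.1 (E.T_normalize_U hh (E.mem_U.2 ⟨b, rfl⟩))
        refine ⟨b', fun z => ?_⟩
        have h1 : E.sl (up b') • h • (![0, z] : Fin 2 → F) = h • E.sl (up b) • ![0, z] := by
          rw [hb', mul_smul, mul_smul, inv_smul_smul]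
        rw [E.up_smul b, show ((![(![0, z] : Fin 2 → F) 0 + b * (![0, z] : Fin 2 → F) 1, (![0, z] : Fin 2 → F) 1]) : Fin 2 → F)
          = ![b * z, 0] + ![0, z] by simp, smul_add, E.al_eq hst, E.up_smul] at h1
        have h2 := congrFun h1 0
        simp at h2
        linear_combination -h2
      obtain ⟨b', hb'⟩ := key 1
      have e1 := hb' 1
      have e2 := hb' z
      rw [one_mul, hx, ha, one_mul] at e1 e2
      have hb0 : b' ≠ 0 := left_ne_zero_of_mul_eq_one e1.symm
      refine mul_left_cancel₀ hb0 ?_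
      rw [← e2, mul_left_comm, ← e1, mul_one]
    set e := (h • (![0, 1] : Fin 2 → F)) 1
    have hi' : ∀ i : ℕ, ((h ^ i) • (![0, 1] : Fin 2 → F)) 1 = e ^ i := by
      intro i
      induction i with
      | zero => simp
      | succ i ih => rw [pow_succ', mul_smul, hde h hh, hlin, ih, pow_succ]
    have he : e = 1 := huni _ n (by
      rw [← hi', hn, one_smul]; simp)
    intro v
    rw [hde h hh, hlin, he, mul_one]
  have hsame : ∀ σ τ : F →+* F, (∃ x, σ x ≠ x) → (∃ x, τ x ≠ x) → ∀ x, σ (τ x) = x := by
    intro σ τ hσ hτ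
    have hcases : ∀ f : F →+* F, (∃ x, f x ≠ x) → ∀ x, f x = x * x := by
      intro f ⟨z, hz⟩ x
      by_cases hx : x = 0
      · simp [hx]
      by_cases hx1 : x = 1
      · simp [hx1]
      have h3 : ∀ y : F, y ≠ 0 → y * y * y = 1 := fun y hy => by
        have := FiniteField.pow_card_sub_one_eq_one y hy
        rw [← Nat.card_eq_fintype_card, hF] at this
        rw [← this]; ring
      have hsq : x * x ≠ 0 ∧ x * x ≠ 1 ∧ x * x ≠ x := by
        refine ⟨mul_ne_zero hx hx, fun h => hx1 ?_, fun h => hx1 ((mul_eq_right₀ hx).1 h)⟩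
        have := h3 x hx
        rwa [h, one_mul] at this
      have hall : ∀ y : F, y = 0 ∨ y = 1 ∨ y = x ∨ y = x * x := by
        intro y
        by_contra hy
        push Not at hy
        have h5 : ({0, 1, x, x * x, y} : Finset F).card ≤ 4 := by
          rw [← hF, Nat.card_eq_fintype_card]; exact Finset.card_le_univ _
        rw [Finset.card_insert_of_notMem, Finset.card_insert_of_notMem, Finset.card_insert_of_notMem,
          Finset.card_insert_of_notMem, Finset.card_singleton] at h5
        · omega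
        · simpa using hy.2.2.2.symm
        · simp [hy.2.2.1.symm, hsq.2.2.symm]
        · simp [hy.2.1.symm, Ne.symm hx1, hsq.2.1.symm]
        · simp [hy.1.symm, Ne.symm hx, hsq.1.symm]
      rcases hall (f x) with h | h | h | h
      · exact absurd ((map_eq_zero f).1 h) hx
      · exact absurd (f.injective (h.trans (map_one f).symm)) hx1
      · exfalso
        rcases hall z with rfl | rfl | rfl | rfl <;> simp [h] at hz
      · exact h
    intro x
    rw [hcases τ hτ, hcases σ hσ]
    by_cases hx : x = 0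
    · simp [hx]
    have := FiniteField.pow_card_sub_one_eq_one x hx
    rw [← Nat.card_eq_fintype_card, hF] at this
    linear_combination x * this
  have hU : Nat.card E.U = 4 := by rw [E.card_U, hF]
  by_cases hall : ∀ h (hh : h ∈ E.T), ∀ x, E.sig h hh x = x
  · have : E.T ≤ E.U := fun h hh => hid h hh (hall h hh)
    exact (Subgroup.card_le_of_le this).trans (by omega)
  push Not at hall
  obtain ⟨h0, hh0, hx0⟩ := hall
  have hcov : ∀ h ∈ E.T, h ∈ E.U ∨ h0 * h ∈ E.U := by
    intro h hh
    by_cases hs : ∀ x, E.sig h hh x = x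
    · exact Or.inl (hid h hh hs)
    push Not at hs
    refine Or.inr (hid _ (mul_mem hh0 hh) fun x => ?_)
    rw [E.sig_comp hh0 hh]
    exact hsame _ _ hx0 hs x
  classical
  let f : E.T → E.U ⊕ E.U := fun h => if hc : (h : Γ) ∈ E.U then Sum.inl ⟨h, hc⟩ else
    Sum.inr ⟨h0 * h, (hcov h h.2).resolve_left hc⟩
  have hf : Function.Injective f := by
    intro a b hab
    simp only [f] at hab
    split_ifs at hab with ha hb hb
    · exact Subtype.ext (by simpa using hab)
    · exact Subtype.ext (by simpa using hab)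
  refine (Nat.card_le_card_of_injective f hf).trans ?_
  rw [Nat.card_sum, hU]

/-- a linear model over two elements -/
theorem exists_gl (hp : p = 2) (hF : Nat.card F = 4) : ∃ φ : Γ →* GL (Fin 4) (ZMod 2), Function.Injective φ := by
  subst hp
  haveI := Fintype.ofFinite F
  letI := ZMod.algebra F 2
  haveI : Module.Finite (ZMod 2) (Fin 2 → F) := Module.Finite.of_finite
  have hd : Module.finrank (ZMod 2) (Fin 2 → F) = 4 := by
    have h := Module.card_eq_pow_finrank (K := ZMod 2) (V := Fin 2 → F)
    rw [Fintype.card_fun, Fintype.card_fin, ← Nat.card_eq_fintype_card, hF, ZMod.card] at h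
    exact (Nat.pow_right_injective (le_refl 2) (h.symm.trans (by norm_num))).trans rfl
  let B := Module.finBasisOfFinrankEq (ZMod 2) (Fin 2 → F) hd
  let L : Γ →* Module.End (ZMod 2) (Fin 2 → F) :=
    { toFun := fun g => (DistribMulAction.toAddMonoidHom (Fin 2 → F) g).toZModLinearMap 2
      map_one' := LinearMap.ext fun v => one_smul Γ v
      map_mul' := fun g h => LinearMap.ext fun v => mul_smul g h v }
  refine ⟨((LinearMap.toMatrixAlgEquiv B).toMonoidHom.comp L).toHomUnits, fun a b h => ?_⟩
  have h1 : L a = L b := (LinearMap.toMatrixAlgEquiv B).injective (congrArg Units.val h)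
  refine inv_mul_eq_one.1 (E.faith _ fun v => ?_)
  have h2 := LinearMap.congr_fun h1 v
  change a • v = b • v at h2
  rw [mul_smul, ← h2, inv_smul_smul]

end Emb

theorem map_core {G H : Type*} [Group G] [Group H] [Finite G] (e : G ≃* H) :
    Cfsg.pPrimeCore 2 H ≤ (Cfsg.pPrimeCore 2 G).map e.toMonoidHom := by
  haveI : Finite H := Finite.of_equiv G e.toEquiv
  haveI : (Cfsg.pPrimeCore 2 H).Normal := inferInstance
  haveI := Subgroup.Normal.map (H := Cfsg.pPrimeCore 2 H) inferInstance e.symm.toMonoidHom e.symm.surjective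
  intro x hx
  refine ⟨e.symm x, Cfsg.Lib.Components.le_pPrimeCore (N := (Cfsg.pPrimeCore 2 H).map e.symm.toMonoidHom) ?_ ⟨x, hx, rfl⟩,
    e.apply_symm_apply x⟩
  rw [Subgroup.card_map_of_injective e.symm.injective]
  exact Cfsg.Lib.Components.coprime_card_pPrimeCore 2

theorem map_core2 {G H : Type*} [Group G] [Group H] [Finite G] (e : G ≃* H) :
    Cfsg.pCore 2 H ≤ (Cfsg.pCore 2 G).map e.toMonoidHom := by
  haveI : Finite H := Finite.of_equiv G e.toEquiv
  haveI : (Cfsg.pCore 2 H).Normal := inferInstance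
  haveI := Subgroup.Normal.map (H := Cfsg.pCore 2 H) inferInstance e.symm.toMonoidHom e.symm.surjective
  intro x hx
  exact ⟨e.symm x, Cfsg.Lib.Components.le_pCore (N := (Cfsg.pCore 2 H).map e.symm.toMonoidHom)
    ((Cfsg.Lib.Components.isPGroup_pCore 2).map _) ⟨x, hx, rfl⟩, e.apply_symm_apply x⟩

/-- **four elements** -/
theorem four_case {F : Type*} [Field F] [Finite F] [CharP F 2] {Γ : Type*} [Group Γ] [Finite Γ]
    [DistribMulAction Γ (Fin 2 → F)] (E : Emb 2 F Γ) (hF : Nat.card F = 4) :
    E.sl.range.Normal ∨ Nonempty (Γ ≃* alternatingGroup (Fin 7)) := by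
  classical
  haveI : Fact (Nat.Prime 2) := ⟨Nat.prime_two⟩
  haveI : Fact (Nat.Prime 7) := ⟨by norm_num⟩
  by_cases hnorm : E.sl.range.Normal
  · exact Or.inl hnorm
  right
  obtain ⟨φ, hφ⟩ := E.exists_gl rfl hF
  have h16 : ¬ 16 ∣ Nat.card Γ := by
    intro h
    have h8 := E.card_T_le rfl hF
    obtain ⟨k, hk⟩ := IsPGroup.iff_card.1 E.hTp
    have hmul := E.T.card_mul_index
    rw [hk] at h8 hmul
    have hk3 : k ≤ 3 := by
      by_contra hc
      have := Nat.pow_le_pow_right (show 1 ≤ 2 by norm_num) (not_le.1 hc)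
      norm_num at this; omega
    have hcop : Nat.Coprime 16 E.T.index := by
      rw [show (16 : ℕ) = 2 ^ 4 by norm_num]
      exact Nat.Coprime.pow_left 4 ((Nat.prime_two.coprime_iff_not_dvd).2 E.hTi)
    rw [← hmul] at h
    have := hcop.dvd_of_dvd_mul_right h
    rw [show (16 : ℕ) = 2 ^ 4 by norm_num, Nat.pow_dvd_pow_iff_le_right (by norm_num)] at this
    omega
  have hdvd : Nat.card Γ ∣ 20160 := by
    have h := Subgroup.card_dvd_of_injective φ hφ
    rwa [Matrix.card_GL_field, ZMod.card, Fin.prod_univ_four, show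
      ((2 : ℕ) ^ 4 - 2 ^ ((0 : Fin 4) : ℕ)) * (2 ^ 4 - 2 ^ ((1 : Fin 4) : ℕ)) * (2 ^ 4 - 2 ^ ((2 : Fin 4) : ℕ)) *
        (2 ^ 4 - 2 ^ ((3 : Fin 4) : ℕ)) = 20160 from rfl] at h
  have h60 := E.card_range hF
  have hprime : ∀ (W : Subgroup Γ), W.Normal → ¬ (Nat.card W).Prime := fun W hW hr => by
    haveI := hW
    haveI := Fact.mk hr
    exact hnorm (E.normal_of_prime_normal hF W rfl)
  -- no normal 2-subgroup
  have hO2 : Cfsg.pCore 2 Γ = ⊥ := by
    by_contra hne
    set W := Cfsg.pCore 2 Γ
    have hWp : IsPGroup 2 W := Cfsg.Lib.Components.isPGroup_pCore 2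
    obtain ⟨e, he, he0⟩ := hWp.exists_fixed_point_of_prime_dvd_card_of_fixed_point (Fin 2 → F)
      (by rw [Nat.card_fun, hF, Nat.card_fin]; norm_num) (a := 0)
      (MulAction.mem_fixedPoints.2 fun g => smul_zero (g : Γ))
    refine hne (le_bot_iff.1 fun w hw => mem_bot.2 (E.faith w fun v => ?_))
    rcases eq_or_ne v 0 with rfl | hv
    · exact smul_zero w
    obtain ⟨A, hA⟩ := exists_col v hv
    obtain ⟨A', hA'⟩ := exists_col e he0.symm
    have e1 : v = E.sl (A * A'⁻¹) • e := by
      rw [map_mul, mul_smul, map_inv, inv_smul_eq_iff.2 (show e = E.sl A' • ![1, 0] by rw [E.hsl, hA']), E.hsl, hA]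
    set s := E.sl (A * A'⁻¹)
    have hn : W.Normal := inferInstance
    have h1 := MulAction.mem_fixedPoints.1 he ⟨s⁻¹ * w * s, by simpa using hn.conj_mem w hw s⁻¹⟩
    change (s⁻¹ * w * s) • e = e at h1
    rw [e1, ← mul_smul, show w * s = s * (s⁻¹ * w * s) by group, mul_smul, h1]
  -- no normal subgroup of odd order
  have hO : Cfsg.pPrimeCore 2 Γ = ⊥ := by
    by_contra hne
    set N := Cfsg.pPrimeCore 2 Γ
    haveI hn : N.Normal := inferInstance
    have hodd : ¬ 2 ∣ Nat.card N := fun h => by
      have h2 := (Cfsg.Lib.Components.coprime_card_pPrimeCore (p := 2) (G := Γ))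
      exact (Nat.prime_two.coprime_iff_not_dvd).1 h2.symm h
    have hsimple : IsSimpleGroup (Matrix.SpecialLinearGroup (Fin 2) F) := by
      haveI := Cfsg.Lib.Classical.isSimpleGroup_PSL_fin (F := F) (n := 2) (le_refl 2) (fun _ => hF.ge)
      have hbot : Subgroup.center (Matrix.SpecialLinearGroup (Fin 2) F) = ⊥ := by
        rw [← Subgroup.card_eq_one, Cfsg.Lib.Classical.card_center_SL, hF, Fintype.card_fin]; rfl
      exact (MulEquiv.ofBijective (QuotientGroup.mk' (Subgroup.center (Matrix.SpecialLinearGroup (Fin 2) F)))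
        ⟨by rw [← MonoidHom.ker_eq_bot_iff, QuotientGroup.ker_mk', hbot], QuotientGroup.mk'_surjective _⟩).isSimpleGroup
    have hinf : N ⊓ E.sl.range = ⊥ := by
      rcases hsimple.eq_bot_or_eq_top_of_normal (N.comap E.sl) inferInstance with h | h
      · refine le_bot_iff.1 fun x hx => ?_
        obtain ⟨hxN, A, rfl⟩ := hx
        have hA : A ∈ N.comap E.sl := hxN
        rw [h, mem_bot] at hA
        rw [mem_bot, hA, map_one]
      · exfalso
        have hle : E.sl.range ≤ N := by
          rintro _ ⟨A, rfl⟩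
          exact (h ▸ Subgroup.mem_top A : A ∈ N.comap E.sl)
        exact hodd (dvd_trans (by rw [h60]; norm_num) (Subgroup.card_dvd_of_le hle))
    have hprod : Nat.card N * 60 ∣ Nat.card Γ := by
      rw [← h60]
      have hd : Disjoint N E.sl.range := disjoint_iff.2 hinf
      have hinj : Function.Injective (fun x : N × E.sl.range => (x.1 : Γ) * x.2) := mul_injective_of_disjoint hd
      have hc : Nat.card ↥(N ⊔ E.sl.range) = Nat.card N * Nat.card E.sl.range := by
        rw [← Nat.card_prod]
        refine (Nat.card_eq_of_bijective (fun x : N × E.sl.range => (⟨(x.1 : Γ) * x.2,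
          mul_mem (mem_sup_left x.1.2) (mem_sup_right x.2.2)⟩ : ↥(N ⊔ E.sl.range))) ⟨?_, ?_⟩).symm
        · exact fun a b h => hinj (congrArg Subtype.val h)
        · rintro ⟨z, hz⟩
          rw [← SetLike.mem_coe, Subgroup.normal_mul] at hz
          obtain ⟨a, ha, b, hb, rfl⟩ := Set.mem_mul.1 hz
          exact ⟨(⟨a, ha⟩, ⟨b, hb⟩), rfl⟩
      rw [← hc]
      exact Subgroup.card_subgroup_dvd_card _
    have h21 : Nat.card N ∣ 21 := by
      have h1 := hprod.trans hdvd
      have h2 : Nat.card N ∣ 336 := Nat.dvd_of_mul_dvd_mul_right (by norm_num : 0 < 60) (by simpa using h1)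
      rw [show (336 : ℕ) = 2 ^ 4 * 21 by norm_num] at h2
      exact (Nat.Coprime.pow_right 4 ((Nat.prime_two.coprime_iff_not_dvd).2 hodd).symm).dvd_of_dvd_mul_left h2
    have hN1 : Nat.card N ≠ 1 := fun h => hne (Subgroup.card_eq_one.1 h)
    by_cases h7 : 7 ∣ Nat.card N
    · obtain ⟨P⟩ : Nonempty (Sylow 7 N) := inferInstance
      have hP : Nat.card P = 7 := by
        obtain ⟨k, hk⟩ := IsPGroup.iff_card.1 P.isPGroup'
        have hdP : 7 ∣ Nat.card P := P.dvd_card_of_dvd_card h7
        have h7' : Nat.card P ∣ 21 := (Subgroup.card_subgroup_dvd_card (P : Subgroup N)).trans h21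
        rw [hk] at hdP h7'
        have hk1 : k ≤ 1 := by
          by_contra hc
          have := (pow_dvd_pow 7 (not_le.1 hc)).trans h7'
          norm_num at this
        have hk0 : k ≠ 0 := fun h => by simp [h] at hdP
        show Nat.card P = 7
        rw [hk, show k = 1 by omega, pow_one]
      have hu : Nat.card (Sylow 7 N) = 1 := by
        have h1 := card_sylow_modEq_one 7 N
        have h2 : Nat.card (Sylow 7 N) ∣ 3 := by
          have := P.card_dvd_index
          refine this.trans ?_
          have hm := (P : Subgroup N).card_mul_index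
          rw [show Nat.card (P : Subgroup N) = 7 from hP] at hm
          obtain ⟨c, hc⟩ := h21
          refine ⟨c, ?_⟩
          rw [← hm, mul_assoc] at hc
          omega
        rcases (Nat.dvd_prime (by norm_num : Nat.Prime 3)).1 h2 with h | h
        · exact h
        · rw [h] at h1; exact absurd h1 (by decide)
      haveI : Subsingleton (Sylow 7 N) := (Nat.card_eq_one_iff_unique.1 hu).1
      haveI : (P : Subgroup N).Characteristic := Sylow.characteristic_of_subsingleton P
      haveI : ((P : Subgroup N).map N.subtype).Normal := ConjAct.normal_of_characteristic_of_normal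
      refine hprime ((P : Subgroup N).map N.subtype) inferInstance ?_
      rw [Subgroup.card_map_of_injective N.subtype_injective, show Nat.card (P : Subgroup N) = 7 from hP]
      norm_num
    · have h3 : Nat.card N ∣ 3 :=
        (((Nat.Prime.coprime_iff_not_dvd (by norm_num : Nat.Prime 7)).2 h7).symm).dvd_of_dvd_mul_right (show Nat.card N ∣ 3 * 7 from h21)
      rcases (Nat.dvd_prime (by norm_num : Nat.Prime 3)).1 h3 with h | h
      · exact hN1 h
      · exact hprime N hn (h ▸ Nat.prime_three)
  let ψ : Γ ≃* φ.range := MonoidHom.ofInjective hφ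
  have hne : φ.range ≠ ⊥ := fun h => by
    have : Nat.card φ.range = 1 := Subgroup.card_eq_one.2 h
    rw [← Nat.card_congr ψ.toEquiv] at this
    have := Subgroup.card_le_card_group E.sl.range
    omega
  have hc : ∀ {K : Type} [Group K], Nonempty (φ.range ≃* K) → Nat.card Γ = Nat.card K :=
    fun {K} _ ⟨e⟩ => Nat.card_congr (ψ.trans e).toEquiv
  have h60' : 60 ∣ Nat.card Γ := h60 ▸ Subgroup.card_subgroup_dvd_card _
  have hindex : E.sl.range.index * 60 = Nat.card Γ := by
    rw [← h60, mul_comm]; exact E.sl.range.card_mul_index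
  rcases Cfsg.Lib.SolvStruct.AltEight.main φ.range hne
      (le_bot_iff.1 ((map_core ψ).trans (by rw [hO, Subgroup.map_bot])))
      (le_bot_iff.1 ((map_core2 ψ).trans (by rw [hO2, Subgroup.map_bot]))) with
    ⟨n, hn5, hn8, he⟩ | he | he | he
  · have hk := hc he
    haveI : Nontrivial (Fin n) := Fin.nontrivial_iff_two_le.2 (by omega)
    have h2 := (alternatingGroup (Fin n)).card_mul_index
    rw [alternatingGroup.index_eq_two, Nat.card_perm, Nat.card_fin, ← hk] at h2
    interval_cases n <;> simp [Nat.factorial] at h2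
    · exact absurd (Subgroup.normal_of_index_eq_one (by omega : E.sl.range.index = 1)) hnorm
    · -- the alternating group of degree six has no suitable subgroup
      exfalso
      haveI : IsSimpleGroup Γ := by
        obtain ⟨e⟩ := he
        haveI := alternatingGroup.isSimpleGroup (α := Fin 6) (by simp)
        exact (ψ.trans e).isSimpleGroup
      set N := normalizer (E.sl.range : Set Γ)
      have hi : N.index ∣ 3 := by
        have h1 : N.index ∣ 6 := by
          have := Subgroup.index_dvd_of_le (le_normalizer : E.sl.range ≤ N)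
          rwa [show E.sl.range.index = 6 by omega] at this
        have h3 : ¬ 2 ∣ N.index := fun hd => E.hTi (hd.trans (Subgroup.index_dvd_of_le E.hTn))
        exact (Nat.prime_two.coprime_iff_not_dvd.2 h3).symm.dvd_of_dvd_mul_left (show N.index ∣ 2 * 3 from h1)
      rcases (Nat.dvd_prime Nat.prime_three).1 hi with h | h
      · exact hnorm (normalizer_eq_top_iff.1 (Subgroup.index_eq_one.1 h))
      · have hcore : N.normalCore = ⊥ := ((IsSimpleGroup.eq_bot_or_eq_top_of_normal N.normalCore inferInstance)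
          ).resolve_right fun ht => by
            have := N.normalCore_le
            rw [ht, top_le_iff] at this
            rw [this, Subgroup.index_top] at h
            omega
        rw [normalCore_eq_ker] at hcore
        have := Subgroup.card_dvd_of_injective _ ((MonoidHom.ker_eq_bot_iff _).1 hcore)
        rw [Nat.card_perm, ← Subgroup.index_eq_card, h, show Nat.card Γ = 360 by omega] at this
        norm_num [Nat.factorial] at this
    · exact ⟨ψ.trans he.some⟩
    · exact absurd ⟨1260, by omega⟩ h16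
  · have hk := hc he
    rw [Nat.card_perm, Nat.card_fin, Nat.factorial] at hk
    norm_num [Nat.factorial] at hk
    exact absurd (Subgroup.normal_of_index_eq_two (by omega : E.sl.range.index = 2)) hnorm
  · have hk := hc he
    rw [Nat.card_perm, Nat.card_fin] at hk
    norm_num [Nat.factorial] at hk
    exact absurd ⟨45, by omega⟩ h16
  · exfalso
    have hk := hc he
    rw [Matrix.card_GL_field, ZMod.card, Fin.prod_univ_three] at hk
    norm_num at hk
    omega

end Cfsg.Lib.LocalEven.NaturalEmb
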