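import Cfsg.Agent.LocalEven.NaturalEmb.Setup

/-!
Outside the field of four elements the special linear group is normal.
-/

set_option autoImplicit false
set_option linter.unusedSectionVars false
set_option linter.style.haveILetI false

namespace Cfsg.Lib.LocalEven.NaturalEmb

open Subgroup Matrix
open Cfsg.Lib.Misc.NaturalSL2 (up coe_up up_add)

variable {F : Type*} [Field F]

/-- two involutory field automorphisms of a finite field agree -/
theorem invol_unique [Finite F] (p : ℕ) [Fact p.Prime] [CharP F p] (σ τ : F →+* F) (hσ : ∀ x, σ (σ x) = x)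
    (hτ : ∀ x, τ (τ x) = x) (h1 : σ ≠ RingHom.id F) (h2 : τ ≠ RingHom.id F) : σ = τ := by
  classical
  letI := ZMod.algebra F p
  haveI : Finite (ZMod p) := Finite.of_fintype _
  let mk : ∀ f : F →+* F, (∀ x, f (f x) = x) → Gal(F/ZMod p) := fun f hf =>
    AlgEquiv.ofRingEquiv (f := RingEquiv.ofRingHom f f (RingHom.ext hf) (RingHom.ext hf))
      (fun x => RingHom.congr_fun (RingHom.ext_zmod (f.comp (algebraMap (ZMod p) F)) (algebraMap (ZMod p) F)) x)
  haveI : Finite Gal(F/ZMod p) := Finite.of_injective (fun e => (e : F → F)) DFunLike.coe_injective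
  haveI := Fintype.ofFinite Gal(F/ZMod p)
  by_contra hne
  have hsub : ({1, mk σ hσ, mk τ hτ} : Finset Gal(F/ZMod p)) ⊆ Finset.univ.filter fun a => a ^ 2 = 1 := by
    intro a ha
    simp only [Finset.mem_insert, Finset.mem_singleton] at ha
    rw [Finset.mem_filter]
    refine ⟨Finset.mem_univ _, ?_⟩
    rcases ha with rfl | rfl | rfl
    · exact one_pow _
    · exact AlgEquiv.ext fun x => by rw [sq]; exact hσ x
    · exact AlgEquiv.ext fun x => by rw [sq]; exact hτ x
  have hc := (Finset.card_le_card hsub).trans (IsCyclic.card_pow_eq_one_le (α := Gal(F/ZMod p)) two_pos)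
  have hinj : ∀ (f f' : F →+* F) (hf : ∀ x, f (f x) = x) (hf' : ∀ x, f' (f' x) = x), mk f hf = mk f' hf' → f = f' :=
    fun f f' hf hf' h => RingHom.ext fun x => AlgEquiv.congr_fun h x
  have hone : ∀ (f : F →+* F) (hf : ∀ x, f (f x) = x), f ≠ RingHom.id F → mk f hf ≠ 1 :=
    fun f hf hn h => hn (RingHom.ext fun x => AlgEquiv.congr_fun h x)
  rw [Finset.card_insert_of_notMem, Finset.card_insert_of_notMem, Finset.card_singleton] at hc
  · omega
  · simp only [Finset.mem_singleton]; exact fun h => hne (hinj σ τ hσ hτ h)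
  · simp only [Finset.mem_insert, Finset.mem_singleton, not_or]
    exact ⟨(hone σ hσ h1).symm, (hone τ hτ h2).symm⟩

/-- a quadratic semilinear map of a line -/
theorem quad_semilinear (σ : F →+* F) (a : F) (_ha : a ≠ 0)
    (h : ∀ x, a * σ (a * σ x) - a * σ x = a * σ x - x) (hne : ∃ x, a * σ x ≠ x) :
    (2 : F) = 0 ∧ (∀ x, σ (σ x) = x) ∧ σ ≠ RingHom.id F := by
  have hid : σ ≠ RingHom.id F := by
    rintro rfl
    obtain ⟨x, hx⟩ := hne
    have h1 := h 1
    simp only [RingHom.id_apply, mul_one] at h1 hx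
    have h2 : (a - 1) * (a - 1) = 0 := by linear_combination h1
    exact hx (by rw [sub_eq_zero.1 (mul_self_eq_zero.1 h2), one_mul])
  have hσ : ∀ x, ∃ z, z = σ x ∧ a * σ a * σ (σ x) - 2 * a * z + x = 0 := fun x => ⟨σ x, rfl, by
    have h1 := h x
    rw [map_mul] at h1
    linear_combination h1⟩
  have hE : ∀ x, a * σ a * σ (σ x) - 2 * a * σ x + x = 0 := fun x => by
    obtain ⟨z, rfl, hz⟩ := hσ x
    exact hz
  obtain ⟨w, hw⟩ : ∃ w, σ w ≠ w := by
    by_contra hc
    push Not at hc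
    exact hid (RingHom.ext hc)
  have hinv : ∀ y, σ (σ y) = y := by
    intro y
    by_contra hy
    have key : ∀ x, -2 * a * σ x * (σ y - σ (σ y)) + x * (y - σ (σ y)) = 0 := fun x => by
      have h1 := hE (x * y)
      rw [map_mul, map_mul] at h1
      linear_combination h1 - σ (σ y) * hE x
    have k1 := key 1
    rw [map_one] at k1
    have k2 : (σ w - w) * (y - σ (σ y)) = 0 := by linear_combination σ w * k1 - key w
    rcases mul_eq_zero.1 k2 with h3 | h3
    · exact hw (sub_eq_zero.1 h3)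
    · exact hy (sub_eq_zero.1 h3).symm
  refine ⟨?_, hinv, hid⟩
  have h1 := hE 1
  have h2 := hE w
  rw [hinv] at h2
  rw [map_one, map_one] at h1
  have h3 : 2 * a * (w - σ w) = 0 := by linear_combination h2 - w * h1
  rcases mul_eq_zero.1 h3 with h4 | h4
  · exact (mul_eq_zero.1 h4).resolve_right _ha
  · exact absurd (sub_eq_zero.1 h4).symm hw

namespace Emb

variable {p : ℕ} {Γ : Type*} [Group Γ] [DistribMulAction Γ (Fin 2 → F)] (E : Emb p F Γ)
variable [Fact p.Prime] [CharP F p] [Finite Γ] [Finite F]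

omit E in
/-- the action on the line -/
def al (h : Γ) (x : F) : F := (h • (![x, 0] : Fin 2 → F)) 0

theorem al_eq {h : Γ} (hh : h ∈ E.st) (x : F) : h • (![x, 0] : Fin 2 → F) = ![al h x, 0] := by
  funext i
  fin_cases i
  · rfl
  · simpa using (hh ![x, 0]).2 (by simp)

omit E in
theorem al_add (h : Γ) (x y : F) : al h (x + y) = al h x + al h y := by
  rw [al, show (![x + y, 0] : Fin 2 → F) = ![x, 0] + ![y, 0] by simp, smul_add]; rfl

theorem al_inj {h : Γ} (hh : h ∈ E.st) : Function.Injective (al (F := F) h) := fun x y hxy => by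
  have : h • (![x, 0] : Fin 2 → F) = h • ![y, 0] := by rw [E.al_eq hh, E.al_eq hh, hxy]
  simpa using congrFun (smul_left_cancel h this) 0

theorem al_one_ne {h : Γ} (hh : h ∈ E.st) : al h (1 : F) ≠ 0 := fun hc => by
  have h0 : al h (0 : F) = 0 := by simpa using (al_add (F := F) h 0 0)
  exact one_ne_zero (E.al_inj hh (hc.trans h0.symm))

theorem al_comp {h h' : Γ} (hh' : h' ∈ E.st) (x : F) : al (h * h') x = al h (al h' x) := by
  rw [al, mul_smul, E.al_eq hh']; rfl

theorem al_mul {h : Γ} (hh : h ∈ E.T) (x y : F) : al h (x * y) * al h 1 = al h x * al h y := by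
  have hst := E.T_le_st hh
  have key : ∀ b : F, ∃ b', ∀ z : F, al h (b * z) = b' * (h • (![0, z] : Fin 2 → F)) 1 := by
    intro b
    obtain ⟨b', hb'⟩ := E.mem_U.1 (E.T_normalize_U hh (E.mem_U.2 ⟨b, rfl⟩))
    refine ⟨b', fun z => ?_⟩
    have h1 : E.sl (up b') • h • (![0, z] : Fin 2 → F) = h • E.sl (up b) • ![0, z] := by
      rw [hb', mul_smul, mul_smul, inv_smul_smul]
    rw [E.up_smul b, show ((![(![0, z] : Fin 2 → F) 0 + b * (![0, z] : Fin 2 → F) 1, (![0, z] : Fin 2 → F) 1]) : Fin 2 → F)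
      = ![b * z, 0] + ![0, z] by simp, smul_add, E.al_eq hst, E.up_smul] at h1
    have h2 := congrFun h1 0
    simp at h2
    linear_combination -h2
  obtain ⟨bx, hx⟩ := key x
  obtain ⟨b1, h1⟩ := key 1
  have e1 := hx 1
  have e2 := h1 y
  have e3 := h1 1
  have e4 := hx y
  rw [mul_one] at e1
  rw [one_mul] at e2
  rw [one_mul] at e3
  rw [e4, e1, e2, e3]
  ring

/-- the field automorphism of an element of the Sylow subgroup -/
def sig (h : Γ) (hh : h ∈ E.T) : F →+* F where
  toFun x := al h x / al h 1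
  map_one' := div_self (E.al_one_ne (E.T_le_st hh))
  map_mul' x y := by
    have := E.al_one_ne (E.T_le_st hh)
    field_simp
    exact E.al_mul hh x y
  map_zero' := by
    have h0 : al h (0 : F) = 0 := by simpa using (al_add (F := F) h 0 0)
    rw [h0, zero_div]
  map_add' x y := by rw [al_add, add_div]

theorem al_eq_sig {h : Γ} (hh : h ∈ E.T) (x : F) : al h x = al h 1 * E.sig h hh x := by
  show al h x = al h 1 * (al h x / al h 1)
  field_simp [E.al_one_ne (E.T_le_st hh)]

theorem sig_comp {h h' : Γ} (hh : h ∈ E.T) (hh' : h' ∈ E.T) (hhh : h * h' ∈ E.T) (x : F) :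
    E.sig (h * h') hhh x = E.sig h hh (E.sig h' hh' x) := by
  have ha := E.al_one_ne (E.T_le_st hh)
  have ha' := E.al_one_ne (E.T_le_st hh')
  have e1 : al (h * h') x = al h 1 * E.sig h hh (al h' x) := by rw [E.al_comp (E.T_le_st hh'), ← E.al_eq_sig hh]
  have e2 : al (h * h') 1 = al h 1 * E.sig h hh (al h' 1) := by rw [E.al_comp (E.T_le_st hh'), ← E.al_eq_sig hh]
  show al (h * h') x / al (h * h') 1 = E.sig h hh (al h' x / al h' 1)
  rw [e1, e2, map_div₀]
  exact mul_div_mul_left _ _ ha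

theorem mem_st_of {g : Γ} (hg : ∀ v : Fin 2 → F, v 1 = 0 → (g • v) 1 = 0) : g ∈ E.st := by
  intro v
  refine ⟨fun hv => ?_, hg v⟩
  let f : {v : Fin 2 → F // v 1 = 0} → {v : Fin 2 → F // v 1 = 0} := fun w => ⟨g • w.1, hg _ w.2⟩
  have hf : Function.Injective f := fun a b h => Subtype.ext (smul_left_cancel g (congrArg Subtype.val h))
  obtain ⟨w, hw⟩ := Finite.surjective_of_injective hf ⟨g • v, hv⟩
  exact smul_left_cancel g (congrArg Subtype.val hw) ▸ w.2

/-- the intersection of the line with a translate -/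
def W (g : Γ) : AddSubgroup F where
  carrier := {x | (g⁻¹ • (![x, 0] : Fin 2 → F)) 1 = 0}
  zero_mem' := by
    show (g⁻¹ • (![0, 0] : Fin 2 → F)) 1 = 0
    rw [show (![0, 0] : Fin 2 → F) = 0 by simp, smul_zero]; rfl
  add_mem' {a b} ha hb := by
    show (g⁻¹ • (![a + b, 0] : Fin 2 → F)) 1 = 0
    rw [show (![a + b, 0] : Fin 2 → F) = ![a, 0] + ![b, 0] by simp, smul_add, Pi.add_apply]
    exact (congrArg₂ (· + ·) ha hb).trans (add_zero 0)
  neg_mem' {a} ha := by
    show (g⁻¹ • (![-a, 0] : Fin 2 → F)) 1 = 0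
    rw [show (![-a, 0] : Fin 2 → F) = -![a, 0] by simp, smul_neg, Pi.neg_apply]
    exact neg_eq_zero.2 ha

theorem mem_W {g : Γ} {x : F} : x ∈ W (F := F) g ↔ (g⁻¹ • (![x, 0] : Fin 2 → F)) 1 = 0 := Iff.rfl

theorem up_zero : (up (0 : F)) = 1 := Subtype.ext (by ext i j; fin_cases i <;> fin_cases j <;> simp [coe_up])

/-- the translations stabilising a translate of the line -/
def K (g : Γ) : AddSubgroup F where
  carrier := {b | g⁻¹ * E.sl (up b) * g ∈ E.st}
  zero_mem' := by
    show g⁻¹ * E.sl (up 0) * g ∈ E.st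
    rw [up_zero, map_one, mul_one, inv_mul_cancel]; exact one_mem _
  add_mem' {a b} ha hb := by
    show g⁻¹ * E.sl (up (a + b)) * g ∈ E.st
    rw [up_add, map_mul, show g⁻¹ * (E.sl (up a) * E.sl (up b)) * g
      = (g⁻¹ * E.sl (up a) * g) * (g⁻¹ * E.sl (up b) * g) by group]
    exact mul_mem ha hb
  neg_mem' {a} ha := by
    show g⁻¹ * E.sl (up (-a)) * g ∈ E.st
    have e : (up (-a) : Matrix.SpecialLinearGroup (Fin 2) F) = (up a)⁻¹ :=
      eq_inv_of_mul_eq_one_left (by rw [← up_add, neg_add_cancel, up_zero])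
    rw [e, map_inv, show g⁻¹ * (E.sl (up a))⁻¹ * g = (g⁻¹ * E.sl (up a) * g)⁻¹ by group]
    exact inv_mem ha

/-- at most two translations stabilise a translate of the line, and a nontrivial one is a field automorphism of order two -/
theorem card_K_le {g : Γ} (hg : g ∉ E.st) :
    Nat.card (E.K g) ≤ 2 ∧ (∀ b ∈ E.K g, b ≠ 0 → (2 : F) = 0 ∧ ∃ σ : F →+* F, σ ≠ RingHom.id F) := by
  let φ : Multiplicative F →* Γ :=
    ((MulAut.conj g⁻¹).toMonoidHom.comp E.sl).comp Cfsg.Lib.Misc.NaturalSL2.upHom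
  have hφ : ∀ b : F, φ (Multiplicative.ofAdd b) = g⁻¹ * E.sl (up b) * g := fun b => by
    simp [φ, Cfsg.Lib.Misc.NaturalSL2.upHom_apply]
  let H : Subgroup Γ := (φ.range ⊓ E.st)
  have hHp : IsPGroup p H := by
    refine IsPGroup.to_le ?_ inf_le_left
    intro z
    obtain ⟨b, hb⟩ := z.2
    refine ⟨1, Subtype.ext ?_⟩
    rw [pow_one, SubgroupClass.coe_pow, ← hb, ← map_pow, OneMemClass.coe_one]
    convert map_one φ
    refine Multiplicative.toAdd.injective ?_
    simp [CharP.cast_eq_zero]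
  obtain ⟨k, hk, hkT⟩ := E.exists_conj_into_T H hHp inf_le_right
  let f : F → Γ := fun b => k⁻¹ * φ (Multiplicative.ofAdd b) * k
  have hfT : ∀ b ∈ E.K g, f b ∈ E.T := fun b hb => hkT _ ⟨⟨_, rfl⟩, by rw [hφ]; exact hb⟩
  have hf2 : ∀ a b, f (a + b) = f a * f b := fun a b => by
    simp only [f, ofAdd_add, map_mul]; group
  have hquad : ∀ b ∈ E.K g, ∀ x : F, al (f b) (al (f b) x) - al (f b) x = al (f b) x - x := by
    intro b hb x
    have hst := E.T_le_st (hfT b hb)
    set u := E.sl (up b)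
    have hu : ∀ w : Fin 2 → F, u • (u • w - w) = u • w - w := fun w =>
      (E.U_le_fl (E.mem_U.2 ⟨b, rfl⟩)).1 _ (by rw [Pi.sub_apply, E.up_smul]; simp)
    have e : ∀ w : Fin 2 → F, f b • w = (g * k)⁻¹ • u • (g * k) • w := fun w => by
      simp only [← mul_smul]
      congr 1
      simp only [f, hφ, u]; group
    have h1 : f b • (f b • (![x, 0] : Fin 2 → F) - ![x, 0]) = f b • ![x, 0] - ![x, 0] := by
      rw [e (![x, 0]), e]
      set w := (g * k) • (![x, 0] : Fin 2 → F)
      rw [show (![x, 0] : Fin 2 → F) = (g * k)⁻¹ • w from (inv_smul_smul _ _).symm, ← smul_sub, smul_inv_smul, hu]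
    rw [E.al_eq hst, show (![al (f b) x, 0] : Fin 2 → F) - ![x, 0] = ![al (f b) x - x, 0] by funext i; fin_cases i <;> simp, E.al_eq hst] at h1
    have h2 := congrFun h1 0
    simp only [Matrix.cons_val_zero] at h2
    have h3 := al_add (F := F) (f b) (al (f b) x - x) x
    rw [sub_add_cancel] at h3
    linear_combination h2 + h3
  have hne : ∀ b ∈ E.K g, b ≠ 0 → ∃ x : F, al (f b) x ≠ x := by
    intro b hb hb0
    by_contra hc
    push Not at hc
    have hgk : g * k ∈ E.st := by
      refine E.mem_st_of fun v hv => ?_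
      have h1 : f b • v = v := by
        rw [fix_line v hv, E.al_eq (E.T_le_st (hfT b hb)), hc]
      have h2 : E.sl (up b) • (g * k) • v = (g * k) • v := by
        conv_rhs => rw [← h1, ← mul_smul]
        rw [← mul_smul]
        congr 1
        simp only [f, hφ]; group
      have h3 := congrFun h2 0
      rw [E.up_smul] at h3
      simpa [hb0] using h3
    exact hg (by simpa using E.st.mul_mem hgk (E.st.inv_mem hk))
  have hσ : ∀ b (hb : b ∈ E.K g), b ≠ 0 →
      (2 : F) = 0 ∧ (∀ x, E.sig (f b) (hfT b hb) (E.sig (f b) (hfT b hb) x) = x) ∧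
        E.sig (f b) (hfT b hb) ≠ RingHom.id F := by
    intro b hb hb0
    refine quad_semilinear _ _ (E.al_one_ne (E.T_le_st (hfT b hb))) (fun x => ?_) ?_
    · simp only [← E.al_eq_sig (hfT b hb)]
      exact hquad b hb x
    · obtain ⟨x, hx⟩ := hne b hb hb0
      exact ⟨x, by rwa [← E.al_eq_sig]⟩
  refine ⟨?_, fun b hb hb0 => ⟨(hσ b hb hb0).1, _, (hσ b hb hb0).2.2⟩⟩
  by_contra hbig
  haveI : Finite (E.K g) := inferInstance
  haveI := Fintype.ofFinite (E.K g)
  rw [Nat.card_eq_fintype_card, not_le] at hbig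
  obtain ⟨x, y, z, hxy, hxz, hyz⟩ := Fintype.two_lt_card_iff.1 hbig
  have key : ∀ a b : E.K g, (a : F) ≠ 0 → (b : F) ≠ 0 → a = b := by
    intro a b ha hb
    have h2 := (hσ _ a.2 ha).1
    have hab : (a : F) + (b : F) = 0 := by
      by_contra hab
      have hs := (E.K g).add_mem a.2 b.2
      have heq : E.sig (f (a : F)) (hfT _ a.2) = E.sig (f (b : F)) (hfT _ b.2) :=
        invol_unique p _ _ (hσ _ a.2 ha).2.1 (hσ _ b.2 hb).2.1 (hσ _ a.2 ha).2.2 (hσ _ b.2 hb).2.2
      refine (hσ _ hs hab).2.2 (RingHom.ext fun x => ?_)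
      have hm : f (a : F) * f (b : F) ∈ E.T := mul_mem (hfT _ a.2) (hfT _ b.2)
      have e : E.sig (f ((a : F) + b)) (hfT _ hs) x = E.sig (f (a : F) * f (b : F)) hm x := by
        show al _ x / al _ 1 = al _ x / al _ 1
        rw [hf2]
      rw [e, E.sig_comp (hfT _ a.2) (hfT _ b.2) hm, ← heq]
      exact (hσ _ a.2 ha).2.1 x
    exact Subtype.ext (by linear_combination hab - (b : F) * h2)
  by_cases hx : (x : F) = 0
  · have hy : (y : F) ≠ 0 := fun h => hxy (Subtype.ext (hx.trans h.symm))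
    have hz : (z : F) ≠ 0 := fun h => hxz (Subtype.ext (hx.trans h.symm))
    exact hyz (key _ _ hy hz)
  · by_cases hy : (y : F) = 0
    · exact hxz (key _ _ hx fun h => hyz (Subtype.ext (hy.trans h.symm)))
    · exact hxy (key _ _ hx hy)

/-- if some translate of the line meets it properly the field has four elements -/
theorem four_of_meet {g : Γ} (hg : g ∉ E.st) (hW : W (F := F) g ≠ ⊥) : p = 2 ∧ Nat.card F = 4 := by
  classical
  haveI := Fintype.ofFinite Γ
  obtain ⟨g₁, hg₁, hmax⟩ := Finset.exists_max_image (Finset.univ.filter fun z : Γ => z ∉ E.st)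
    (fun z => Nat.card (W (F := F) z)) ⟨g, by simpa using hg⟩
  have hg' : g₁ ∉ E.st := by simpa using hg₁
  have h2 : 2 ≤ Nat.card (W (F := F) g₁) :=
    le_trans ((AddSubgroup.one_lt_card_iff_ne_bot _).2 hW) (hmax g (by simpa using hg))
  clear hg hW hg₁
  rename' g => g₀
  rename' g₁ => g
  obtain ⟨x₀, hx₀⟩ : ∃ x : F, (g • (![x, 0] : Fin 2 → F)) 1 ≠ 0 := by
    by_contra hc
    push Not at hc
    exact hg' (E.mem_st_of fun v hv => by rw [fix_line v hv]; exact hc _)
  set y1 := (g • (![x₀, 0] : Fin 2 → F)) 1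
  have hline : ∀ x : F, x ∈ W (F := F) g → g • (![(g⁻¹ • (![x, 0] : Fin 2 → F)) 0, 0] : Fin 2 → F) = ![x, 0] := by
    intro x hx
    rw [← fix_line _ (mem_W.1 hx), smul_inv_smul]
  have hker : ∀ b : F, b * y1 ∈ W (F := F) g → b ∈ E.K g := by
    intro b hb
    by_contra hbK
    change g⁻¹ * E.sl (up b) * g ∉ E.st at hbK
    have hmem : ∀ x : F, (g • (![x, 0] : Fin 2 → F)) 1 * b ∈ W (F := F) g →
        x ∈ W (F := F) (g⁻¹ * E.sl (up b) * g) := by
      intro x hx
      set v := g • (![x, 0] : Fin 2 → F)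
      have e : (g⁻¹ * E.sl (up b) * g)⁻¹ = g⁻¹ * (E.sl (up b))⁻¹ * g := by group
      rw [mem_W, e, mul_smul, mul_smul]
      have e2 : (E.sl (up b))⁻¹ • v = v - ![v 1 * b, 0] := by
        rw [inv_smul_eq_iff, smul_sub, E.up_smul, E.up_smul]
        funext i
        fin_cases i <;> simp <;> ring
      rw [e2, smul_sub, inv_smul_smul, Pi.sub_apply, mem_W.1 hx]
      simp
    let ι : W (F := F) g → W (F := F) (g⁻¹ * E.sl (up b) * g) := fun x =>
      ⟨(g⁻¹ • (![(x : F), 0] : Fin 2 → F)) 0, hmem _ (by rw [hline _ x.2]; simp)⟩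
    have hιinj : Function.Injective ι := fun a c h => Subtype.ext (by
      have h' := congrArg Subtype.val h
      simp only [ι] at h'
      have := hline _ a.2
      rw [h', hline _ c.2] at this
      simpa using (congrFun this 0).symm)
    have hnot : ¬ Function.Surjective ι := fun hs => by
      obtain ⟨a, ha⟩ := hs ⟨x₀, hmem x₀ (by rwa [mul_comm])⟩
      have h' := congrArg Subtype.val ha
      simp only [ι] at h'
      exact hx₀ (by show (g • (![x₀, 0] : Fin 2 → F)) 1 = 0; rw [← h', hline _ a.2]; simp)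
    have h1 := hmax (g⁻¹ * E.sl (up b) * g) (by simpa using hbK)
    exact hnot ((Nat.bijective_iff_injective_and_card ι).2
      ⟨hιinj, le_antisymm (Nat.card_le_card_of_injective ι hιinj) h1⟩).2
  have hWK : Nat.card (W (F := F) g) ≤ Nat.card (E.K g) := by
    let φ : F →+ F ⧸ W (F := F) g := (QuotientAddGroup.mk' _).comp (AddMonoidHom.mulRight y1)
    have hk : φ.ker ≤ E.K g := fun b hb => hker b (by
      simpa [φ, AddMonoidHom.mem_ker, QuotientAddGroup.eq_zero_iff] using hb)
    have h1 := φ.ker.card_mul_index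
    have h3 := (W (F := F) g).card_mul_index
    rw [AddSubgroup.index_ker] at h1
    have h4 : Nat.card φ.range ≤ (W (F := F) g).index := by
      rw [AddSubgroup.index_eq_card]
      exact Nat.card_le_card_of_injective _ Subtype.val_injective
    have h5 : Nat.card φ.ker ≤ Nat.card (E.K g) :=
      Nat.card_le_card_of_injective _ (AddSubgroup.inclusion_injective hk)
    have h6 : Nat.card (W (F := F) g) * (W (F := F) g).index ≤ Nat.card (E.K g) * (W (F := F) g).index := by
      rw [h3, ← h1]; exact Nat.mul_le_mul h5 h4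
    exact Nat.le_of_mul_le_mul_right h6 (Nat.pos_of_ne_zero AddSubgroup.index_ne_zero_of_finite)
  obtain ⟨hK2, hKσ⟩ := E.card_K_le hg'
  obtain ⟨⟨b, hbK⟩, hb0⟩ : ∃ b : E.K g, b ≠ 0 := by
    haveI : Nontrivial (E.K g) := Finite.one_lt_card_iff_nontrivial.1 (by omega)
    exact exists_ne 0
  have hb : b ≠ 0 := fun h => hb0 (Subtype.ext h)
  obtain ⟨h20, σ, hσ⟩ := hKσ b hbK hb
  have hp2 : p = 2 := by
    have : ((2 : ℕ) : F) = 0 := by exact_mod_cast h20
    exact (Nat.prime_dvd_prime_iff_eq Fact.out Nat.prime_two).1 ((CharP.cast_eq_zero_iff F p 2).1 this)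
  refine ⟨hp2, ?_⟩
  let θ : F →+ F := AddMonoidHom.mk' (fun x => b * (g • (![x, 0] : Fin 2 → F)) 1) fun x y => by
    rw [show (![x + y, 0] : Fin 2 → F) = ![x, 0] + ![y, 0] by simp, smul_add, Pi.add_apply, mul_add]
  have hθ : θ.range ≤ W (F := F) g := by
    rintro _ ⟨x, rfl⟩
    have h1 := (hbK (![x, 0] : Fin 2 → F)).2 (by simp)
    rw [mul_smul, mul_smul, E.up_smul] at h1
    set v := g • (![x, 0] : Fin 2 → F) with hv
    show (g⁻¹ • (![b * v 1, 0] : Fin 2 → F)) 1 = 0
    rw [show (![b * v 1, 0] : Fin 2 → F) = ![v 0 + b * v 1, v 1] - v by funext i; fin_cases i <;> simp,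
      smul_sub, Pi.sub_apply, h1, hv, inv_smul_smul]
    simp
  have hkW : Nat.card θ.ker ≤ Nat.card (W (F := F) g) := by
    have hz : ∀ x : θ.ker, (g • (![(x : F), 0] : Fin 2 → F)) 1 = 0 := fun x =>
      (mul_eq_zero.1 (x.2 : b * _ = 0)).resolve_left hb
    refine Nat.card_le_card_of_injective (fun x => ⟨(g • (![(x : F), 0] : Fin 2 → F)) 0, ?_⟩) fun a c h => ?_
    · rw [mem_W, ← fix_line _ (hz x), inv_smul_smul]; simp
    · have h' := congrArg Subtype.val h
      have : g • (![(a : F), 0] : Fin 2 → F) = g • ![(c : F), 0] := by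
        rw [fix_line _ (hz a), fix_line _ (hz c)]
        simp only at h'
        rw [h']
      exact Subtype.ext (by simpa using congrFun (smul_left_cancel g this) 0)
  have hle : Nat.card F ≤ 4 := by
    have h1 := θ.ker.card_mul_index
    rw [AddSubgroup.index_ker] at h1
    have h3 : Nat.card θ.range ≤ Nat.card (W (F := F) g) :=
      Nat.card_le_card_of_injective _ (AddSubgroup.inclusion_injective hθ)
    rw [← h1]
    exact (Nat.mul_le_mul (hkW.trans (hWK.trans hK2)) (h3.trans (hWK.trans hK2))).trans le_rfl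
  haveI := Fintype.ofFinite F
  subst hp2
  obtain ⟨n, -, hn⟩ := FiniteField.card F 2
  rw [Nat.card_eq_fintype_card] at hle ⊢
  have hn2 : (n : ℕ) ≤ 2 := by
    by_contra hc
    have := Nat.pow_le_pow_right (show 1 ≤ 2 by norm_num) (not_le.1 hc)
    rw [← hn] at this
    norm_num at this
    omega
  have hne : (n : ℕ) ≠ 1 := fun h1 => hσ (RingHom.ext fun x => by
    have hx : x = 0 ∨ x = 1 := by
      by_contra hc
      push Not at hc
      have h3 : 2 < Fintype.card F := Fintype.two_lt_card_iff.2 ⟨0, 1, x, zero_ne_one, hc.1.symm, hc.2.symm⟩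
      rw [hn, h1] at h3
      omega
    rcases hx with rfl | rfl <;> simp)
  rw [hn, show (n : ℕ) = 2 by have := n.pos; omega]
  norm_num

/-- **outside four elements** the special linear group is normal -/
theorem range_normal (h4 : ¬ (p = 2 ∧ Nat.card F = 4)) : E.sl.range.Normal := by
  have key : ∀ (b : F) (g : Γ), g * E.sl (up b) * g⁻¹ ∈ E.sl.range := by
    intro b g
    obtain ⟨A, hA⟩ := exists_col (g • (![1, 0] : Fin 2 → F)) (fun h => by
      rw [smul_eq_zero_iff_eq] at h
      simpa using congrFun h 0)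
    set k := (E.sl A)⁻¹ * g with hk
    have hfix : k • (![1, 0] : Fin 2 → F) = ![1, 0] := by
      rw [hk, mul_smul, inv_smul_eq_iff, E.hsl, hA]
    have hkst : k ∈ E.st := by
      by_contra hc
      refine h4 (E.four_of_meet hc fun hbot => one_ne_zero ((AddSubgroup.eq_bot_iff_forall _).1 hbot (1 : F) ?_))
      rw [mem_W, inv_smul_eq_iff.2 hfix.symm]
      simp
    obtain ⟨b', hb'⟩ := E.mem_U.1 (E.st_normalize_U hkst (E.mem_U.2 ⟨b, rfl⟩))
    refine ⟨A * up b' * A⁻¹, ?_⟩
    rw [map_mul, map_mul, map_inv, hb', hk]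
    group
  let C : Subgroup (Matrix.SpecialLinearGroup (Fin 2) F) :=
    { carrier := {A | ∀ g : Γ, g * E.sl A * g⁻¹ ∈ E.sl.range}
      one_mem' := fun g => by simp
      mul_mem' := fun {a b} ha hb g => by
        rw [map_mul, show g * (E.sl a * E.sl b) * g⁻¹ = (g * E.sl a * g⁻¹) * (g * E.sl b * g⁻¹) by group]
        exact mul_mem (ha g) (hb g)
      inv_mem' := fun {a} ha g => by
        rw [map_inv, show g * (E.sl a)⁻¹ * g⁻¹ = (g * E.sl a * g⁻¹)⁻¹ by group]
        exact inv_mem (ha g) }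
  refine ⟨fun n hn g => ?_⟩
  obtain ⟨A, rfl⟩ := hn
  refine mem_of_up_low C (fun x g => key x g) (fun x g => ?_) A g
  obtain ⟨y, hy⟩ : ∃ y : F, low x = wey * up y * wey⁻¹ := ⟨-x, by rw [conj_wey, neg_neg]⟩
  obtain ⟨B, hB⟩ := key y (g * E.sl wey)
  refine ⟨B, ?_⟩
  rw [hB, hy, map_mul, map_mul, map_inv]
  group

end Emb

end Cfsg.Lib.LocalEven.NaturalEmb
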