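import Mathlib
import Cfsg.Agent.Components.Misc.NaturalSL2

/-!
A finite group acting faithfully on the natural module of `SL₂(F)` and containing `SL₂(F)`, such that a Sylow
`p`-subgroup normalises the special linear group.
-/

set_option autoImplicit false
set_option linter.unusedSectionVars false

namespace Cfsg.Lib.LocalEven.NaturalEmb

open Subgroup Matrix
open Cfsg.Lib.Misc.NaturalSL2 (up coe_up up_add)

variable {F : Type*} [Field F]

local notation "SL2" => Matrix.SpecialLinearGroup (Fin 2) F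

/-- lower unitriangular -/
def low (x : F) : SL2 := ⟨!![1, 0; x, 1], by simp [det_fin_two]⟩

theorem coe_low (x : F) : ((low x : SL2) : Matrix (Fin 2) (Fin 2) F) = !![1, 0; x, 1] := rfl

/-- the Weyl element -/
def wey : SL2 := ⟨!![0, 1; -1, 0], by simp [det_fin_two]⟩

theorem coe_wey : ((wey : SL2) : Matrix (Fin 2) (Fin 2) F) = !![0, 1; -1, 0] := rfl

theorem conj_wey (x : F) : wey * up x * wey⁻¹ = (low (-x) : SL2) := by
  rw [mul_inv_eq_iff_eq_mul]
  refine Subtype.ext ?_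
  rw [Matrix.SpecialLinearGroup.coe_mul, Matrix.SpecialLinearGroup.coe_mul]
  ext i j
  fin_cases i <;> fin_cases j <;> simp [coe_wey, coe_up, coe_low, Matrix.mul_apply, Fin.sum_univ_two]

/-- the upper and the lower unitriangular matrices generate -/
theorem mem_of_up_low (C : Subgroup SL2) (hu : ∀ x, up x ∈ C) (hl : ∀ x, low x ∈ C) (A : SL2) : A ∈ C := by
  have key : ∀ A : SL2, (A : Matrix (Fin 2) (Fin 2) F) 1 0 ≠ 0 → A ∈ C := by
    intro A hc
    have hd := A.2
    rw [det_fin_two] at hd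
    set a := (A : Matrix (Fin 2) (Fin 2) F) 0 0
    set b := (A : Matrix (Fin 2) (Fin 2) F) 0 1
    set c := (A : Matrix (Fin 2) (Fin 2) F) 1 0
    set d := (A : Matrix (Fin 2) (Fin 2) F) 1 1
    have e : A = up ((a - 1) / c) * low c * up ((d - 1) / c) := by
      refine Subtype.ext ?_
      ext i j
      fin_cases i <;> fin_cases j <;>
        simp [coe_up, coe_low, Matrix.mul_apply, Fin.sum_univ_two]
      all_goals simp only [show (A : Matrix (Fin 2) (Fin 2) F) 0 0 = a from rfl,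
        show (A : Matrix (Fin 2) (Fin 2) F) 0 1 = b from rfl,
        show (A : Matrix (Fin 2) (Fin 2) F) 1 0 = c from rfl,
        show (A : Matrix (Fin 2) (Fin 2) F) 1 1 = d from rfl]
      all_goals field_simp
      all_goals first | ring1 | linear_combination -hd | linear_combination hd
    rw [e]
    exact C.mul_mem (C.mul_mem (hu _) (hl _)) (hu _)
  by_cases hc : (A : Matrix (Fin 2) (Fin 2) F) 1 0 = 0
  · have hd := A.2
    rw [det_fin_two, hc, mul_zero, sub_zero] at hd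
    have ha : (A : Matrix (Fin 2) (Fin 2) F) 0 0 ≠ 0 := left_ne_zero_of_mul_eq_one hd
    have h := key (low 1 * A) (by simpa [coe_low, Matrix.mul_apply, Fin.sum_univ_two, hc] using ha)
    simpa using C.mul_mem (C.inv_mem (hl 1)) h
  · exact key A hc

/-- a special linear matrix with prescribed first column -/
theorem exists_col (v : (Fin 2 → F)) (hv : v ≠ 0) :
    ∃ A : SL2, (A : Matrix (Fin 2) (Fin 2) F) *ᵥ ![1, 0] = v := by
  by_cases h0 : v 0 = 0
  · have h1 : v 1 ≠ 0 := fun h1 => hv (funext fun i => by fin_cases i <;> simp [h0, h1])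
    refine ⟨⟨!![0, -(v 1)⁻¹; v 1, 0], by simp [det_fin_two, h1]⟩, ?_⟩
    funext i
    fin_cases i <;> simp [h0, mulVec, dotProduct, Fin.sum_univ_two]
  · refine ⟨⟨!![v 0, 0; v 1, (v 0)⁻¹], by simp [det_fin_two, h0]⟩, ?_⟩
    funext i
    fin_cases i <;> simp [mulVec, dotProduct, Fin.sum_univ_two]

theorem up_mulVec (b : F) (v : (Fin 2 → F)) : ((up b : SL2) : Matrix (Fin 2) (Fin 2) F) *ᵥ v = ![v 0 + b * v 1, v 1] := by
  funext i
  fin_cases i <;> simp [coe_up, mulVec, dotProduct, Fin.sum_univ_two]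

theorem low_mulVec (b : F) (v : (Fin 2 → F)) : ((low b : SL2) : Matrix (Fin 2) (Fin 2) F) *ᵥ v = ![v 0, b * v 0 + v 1] := by
  funext i
  fin_cases i <;> simp [coe_low, mulVec, dotProduct, Fin.sum_univ_two]

/-- the situation -/
structure Emb (p : ℕ) (F : Type*) [Field F] (Γ : Type*) [Group Γ] [DistribMulAction Γ (Fin 2 → F)] where
  faith : ∀ g : Γ, (∀ v : Fin 2 → F, g • v = v) → g = 1
  sl : Matrix.SpecialLinearGroup (Fin 2) F →* Γ
  hsl : ∀ (A : Matrix.SpecialLinearGroup (Fin 2) F) (v : Fin 2 → F),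
    sl A • v = (A : Matrix (Fin 2) (Fin 2) F) *ᵥ v
  T : Subgroup Γ
  hTp : IsPGroup p T
  hTi : ¬ p ∣ T.index
  hTn : T ≤ normalizer (sl.range : Set Γ)
  hupT : ∀ b : F, sl (up b) ∈ T

namespace Emb

variable {p : ℕ} {Γ : Type*} [Group Γ] [DistribMulAction Γ (Fin 2 → F)] (E : Emb p F Γ)
include E

/-- the unitriangular subgroup -/
def U : Subgroup Γ := (E.sl.comp Cfsg.Lib.Misc.NaturalSL2.upHom).range

theorem mem_U {g : Γ} : g ∈ E.U ↔ ∃ b : F, E.sl (up b) = g := by
  constructor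
  · rintro ⟨x, rfl⟩; exact ⟨x.toAdd, rfl⟩
  · rintro ⟨b, rfl⟩; exact ⟨Multiplicative.ofAdd b, rfl⟩

theorem up_smul (b : F) (v : (Fin 2 → F)) : E.sl (up b) • v = ![v 0 + b * v 1, v 1] := by rw [E.hsl, up_mulVec]

theorem low_smul (b : F) (v : (Fin 2 → F)) : E.sl (low b) • v = ![v 0, b * v 0 + v 1] := by rw [E.hsl, low_mulVec]

theorem sl_injective : Function.Injective E.sl := by
  intro A B h
  refine Subtype.ext (Matrix.ext_of_mulVec_single fun j => ?_)
  rw [← E.hsl, ← E.hsl, h]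

omit E in
theorem fix_line (v : (Fin 2 → F)) (h : v 1 = 0) : v = ![v 0, 0] := funext fun i => by fin_cases i <;> simp [h]

omit E in
theorem split (v : (Fin 2 → F)) : v = ![v 0, 0] + ![0, v 1] := funext fun i => by fin_cases i <;> simp

omit E in
theorem coord_sub (g : Γ) (v : (Fin 2 → F)) : g • v - v = g • v + (-1 : ℤ) • v := by simp [sub_eq_add_neg]

omit E in
/-- the stabiliser of the line -/
def st (_E : Emb p F Γ) : Subgroup Γ where
  carrier := {g | ∀ v : (Fin 2 → F), (g • v) 1 = 0 ↔ v 1 = 0}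
  one_mem' v := by rw [one_smul]
  mul_mem' {a b} ha hb v := by rw [mul_smul, ha, hb]
  inv_mem' {a} ha v := by rw [← ha, smul_inv_smul]

theorem mem_st {g : Γ} : g ∈ E.st ↔ ∀ v : (Fin 2 → F), (g • v) 1 = 0 ↔ v 1 = 0 := Iff.rfl

omit E in
/-- the centraliser of the flag -/
def fl (_E : Emb p F Γ) : Subgroup Γ where
  carrier := {g | (∀ v : (Fin 2 → F), v 1 = 0 → g • v = v) ∧ ∀ v : (Fin 2 → F), (g • v) 1 = v 1}
  one_mem' := ⟨fun v _ => one_smul _ v, fun v => by rw [one_smul]⟩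
  mul_mem' {a b} ha hb := ⟨fun v hv => by rw [mul_smul, hb.1 v hv, ha.1 v hv],
    fun v => by rw [mul_smul, ha.2, hb.2]⟩
  inv_mem' {a} ha := ⟨fun v hv => by rw [inv_smul_eq_iff, ha.1 v hv],
    fun v => by rw [← ha.2 (a⁻¹ • v), smul_inv_smul]⟩

theorem fl_le_st : E.fl ≤ E.st := fun g hg v => by rw [hg.2]

theorem U_le_fl : E.U ≤ E.fl := by
  intro g hg
  obtain ⟨b, rfl⟩ := E.mem_U.1 hg
  refine ⟨fun v hv => ?_, fun v => ?_⟩
  · rw [E.up_smul, fix_line v hv]; simp
  · rw [E.up_smul]; simp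

theorem fl_conj {h g : Γ} (hh : h ∈ E.st) (hg : g ∈ E.fl) : h * g * h⁻¹ ∈ E.fl := by
  have hh' := E.st.inv_mem hh
  refine ⟨fun v hv => ?_, fun v => ?_⟩
  · rw [mul_smul, mul_smul, hg.1 _ ((hh' v).2 hv), smul_inv_smul]
  · rw [mul_smul, mul_smul]
    set w := h⁻¹ • v with hw
    have hd : (g • w - w) 1 = 0 := by rw [Pi.sub_apply, hg.2, sub_self]
    have h1 := (hh (g • w - w)).2 hd
    rw [smul_sub, hw, smul_inv_smul, Pi.sub_apply, sub_eq_zero] at h1
    exact h1

variable [Fact p.Prime] [CharP F p]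

theorem fl_pGroup : IsPGroup p E.fl := by
  intro g
  refine ⟨1, Subtype.ext ?_⟩
  rw [pow_one, SubgroupClass.coe_pow, OneMemClass.coe_one]
  refine E.faith _ fun v => ?_
  set d := (g : Γ) • v - v
  have hd : (g : Γ) • d = d := g.2.1 d (show ((g : Γ) • v - v) 1 = 0 by rw [Pi.sub_apply, g.2.2, sub_self])
  have h : ∀ i : ℕ, ((g : Γ) ^ i) • v = v + i • d := by
    intro i
    induction i with
    | zero => simp
    | succ i ih =>
      rw [pow_succ', mul_smul, ih, smul_add, ← smul_comm i (g : Γ) d, hd, succ_nsmul]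
      simp only [d]
      abel
  rw [h, show p • d = 0 from funext fun i => by simp [CharP.cast_eq_zero]]
  simp

variable [Finite Γ] [Finite F]

theorem card_U : Nat.card E.U = Nat.card F := by
  have hinj : Function.Injective (E.sl.comp Cfsg.Lib.Misc.NaturalSL2.upHom) := fun x y h => by
    have := congrArg (fun A : SL2 => (A : Matrix (Fin 2) (Fin 2) F) 0 1) (E.sl_injective h)
    simpa [Cfsg.Lib.Misc.NaturalSL2.upHom_apply, coe_up] using this
  rw [U, ← Nat.card_congr (MonoidHom.ofInjective hinj).toEquiv, Nat.card_congr Multiplicative.toAdd]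

/-- the Sylow subgroup meets the special linear group in the unitriangular subgroup -/
theorem T_inf_range : E.T ⊓ E.sl.range ≤ E.U := by
  haveI := Fintype.ofFinite F
  obtain ⟨n, -, hn⟩ := FiniteField.card F p
  have hU : E.U ≤ E.T ⊓ E.sl.range := by
    intro g hg
    obtain ⟨b, rfl⟩ := E.mem_U.1 hg
    exact ⟨E.hupT b, ⟨_, rfl⟩⟩
  refine (Subgroup.eq_of_le_of_card_ge hU ?_).ge
  obtain ⟨k, hk⟩ := IsPGroup.iff_card.1 (E.hTp.to_le (inf_le_left : E.T ⊓ E.sl.range ≤ E.T))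
  rw [E.card_U, hk, Nat.card_eq_fintype_card, hn]
  refine Nat.pow_le_pow_right (Fact.out : p.Prime).pos ?_
  have hd : p ^ k ∣ Nat.card SL2 := by
    rw [← hk, Nat.card_congr (MonoidHom.ofInjective E.sl_injective).toEquiv]
    exact Subgroup.card_dvd_of_le inf_le_right
  have h := Cfsg.Lib.Classical.card_SL_mul_eq_prod (F := F) (n := 2) (by norm_num)
  simp only [Fin.prod_univ_two, Fin.val_zero, pow_zero, Fin.val_one, pow_one] at h
  have h2 : p ^ k ∣ (Fintype.card F ^ 2 - 1) * (Fintype.card F ^ 2 - Fintype.card F) := by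
    rw [← h]; exact dvd_mul_of_dvd_right hd _
  set q := p ^ (n : ℕ)
  rw [hn] at h2
  have hq : 1 ≤ q := Nat.one_le_pow _ _ (Fact.out : p.Prime).pos
  have hq2 : 2 ≤ q := hn ▸ Fintype.one_lt_card
  have hpq : p ∣ q := dvd_pow_self p n.ne_zero
  have hc : Nat.Coprime (p ^ k) ((q ^ 2 - 1) * (q - 1)) := by
    refine Nat.Coprime.pow_left k ((Fact.out : p.Prime).coprime_iff_not_dvd.2 fun hd' => ?_)
    rcases (Fact.out : p.Prime).dvd_mul.1 hd' with h3 | h3
    · have := Nat.dvd_sub (dvd_pow hpq two_ne_zero) h3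
      rw [Nat.sub_sub_self (Nat.one_le_pow _ _ (by omega)), Nat.dvd_one] at this
      exact (Fact.out : p.Prime).ne_one this
    · have := Nat.dvd_sub hpq h3
      rw [Nat.sub_sub_self hq, Nat.dvd_one] at this
      exact (Fact.out : p.Prime).ne_one this
  have h4 : p ^ k ∣ (q ^ 2 - 1) * (q - 1) * q := by
    rw [mul_assoc, show (q - 1) * q = q ^ 2 - q by rw [Nat.sub_mul, one_mul, sq]]; exact h2
  exact (Nat.pow_dvd_pow_iff_le_right (Fact.out : p.Prime).one_lt).1 (hc.dvd_of_dvd_mul_left h4)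

theorem T_normalize_U {h u : Γ} (hh : h ∈ E.T) (hu : u ∈ E.U) : h * u * h⁻¹ ∈ E.U := by
  refine E.T_inf_range ⟨?_, ?_⟩
  · obtain ⟨b, rfl⟩ := E.mem_U.1 hu
    exact E.T.mul_mem (E.T.mul_mem hh (E.hupT b)) (E.T.inv_mem hh)
  · obtain ⟨b, rfl⟩ := E.mem_U.1 hu
    exact (mem_normalizer_iff.1 (E.hTn hh) _).1 ⟨_, rfl⟩

theorem T_le_st : E.T ≤ E.st := by
  intro h hh v
  have hfix : ∀ w : (Fin 2 → F), w 1 = 0 ↔ ∀ u ∈ E.U, u • w = w := by
    intro w
    constructor
    · exact fun hw u hu => (E.U_le_fl hu).1 w hw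
    · intro hu
      have h1 := congrFun (hu _ (E.mem_U.2 ⟨1, rfl⟩)) 0
      rw [E.up_smul] at h1
      simpa using h1
  rw [hfix, hfix]
  constructor
  · intro H u hu
    have := H _ (E.T_normalize_U hh hu)
    rwa [mul_smul, mul_smul, inv_smul_smul, smul_left_cancel_iff] at this
  · intro H u hu
    have := H _ (E.T_normalize_U (E.T.inv_mem hh) hu)
    rw [inv_inv, mul_smul, mul_smul] at this
    rwa [inv_smul_eq_iff] at this

/-- the Sylow subgroup inside the stabiliser of the line -/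
theorem exists_conj_into_T (H : Subgroup Γ) (hH : IsPGroup p H) (hle : H ≤ E.st) :
    ∃ k ∈ E.st, ∀ h ∈ H, k⁻¹ * h * k ∈ E.T := by
  have hp : IsPGroup p (E.T.subgroupOf E.st) := E.hTp.comap_of_injective _ (subtype_injective _)
  have hi : ¬ p ∣ (E.T.subgroupOf E.st).index := fun hd => E.hTi (by
    rw [← relIndex_mul_index E.T_le_st]
    exact dvd_mul_of_dvd_left hd _)
  obtain ⟨Q, hQ⟩ := (hH.comap_of_injective E.st.subtype (subtype_injective _)).exists_le_sylow
  obtain ⟨k, hk⟩ := MulAction.exists_smul_eq E.st (hp.toSylow hi) Q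
  refine ⟨k, k.2, fun h hh => ?_⟩
  have h1 : (⟨h, hle hh⟩ : E.st) ∈ Q := hQ hh
  rw [← hk] at h1
  obtain ⟨x, hx, hxe⟩ := h1
  have h2 : ((k : Γ) * (x : Γ) * (k : Γ)⁻¹) = h := congrArg Subtype.val hxe
  rw [← h2, show (k : Γ)⁻¹ * ((k : Γ) * (x : Γ) * (k : Γ)⁻¹) * k = (x : Γ) by group]
  exact mem_subgroupOf.1 hx

/-- the centraliser of the flag is the unitriangular subgroup -/
theorem fl_le_U : E.fl ≤ E.U := by
  have hT : E.fl ≤ E.T := by
    intro g hg
    obtain ⟨k, hk, hkT⟩ := E.exists_conj_into_T E.fl E.fl_pGroup E.fl_le_st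
    have := hkT _ (E.fl_conj hk hg)
    simpa [mul_assoc] using this
  intro g hg
  obtain ⟨B, hB⟩ := (mem_normalizer_iff.1 (E.hTn (hT hg)) (E.sl (low 1))).1 ⟨_, rfl⟩
  set β : F → F := fun y => (g • (![0, y] : (Fin 2 → F))) 0
  have hg1 : ∀ y : F, g • (![0, y] : (Fin 2 → F)) = ![β y, y] := fun y => funext fun i => by
    fin_cases i
    · rfl
    · simpa using hg.2 ![0, y]
  have hgv : ∀ x y : F, g • (![x, y] : (Fin 2 → F)) = ![x + β y, y] := fun x y => by
    rw [show (![x, y] : (Fin 2 → F)) = ![x, 0] + ![0, y] by simp, smul_add, hg.1 _ (by simp), hg1]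
    simp
  have hgi : ∀ x y : F, g⁻¹ • (![x, y] : (Fin 2 → F)) = ![x - β y, y] := fun x y => by
    rw [inv_smul_eq_iff, hgv]; simp
  have hx : ∀ x : F, (g * E.sl (low 1) * g⁻¹) • (![x, 0] : (Fin 2 → F)) = ![x + β x, x] := by
    intro x
    rw [mul_smul, mul_smul, (E.fl.inv_mem hg).1 _ (by simp), E.low_smul, hgv]
    simp [add_comm]
  have hlin : ∀ x : F, x + β x = x * (1 + β 1) := by
    intro x
    have h1 := hx x
    have h2 := hx 1
    rw [← hB, E.hsl] at h1 h2
    have e1 := congrFun h1 0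
    have e2 := congrFun h2 0
    simp [mulVec, dotProduct, Fin.sum_univ_two] at e1 e2
    rw [← e1, ← e2]; ring
  refine E.mem_U.2 ⟨β 1, ?_⟩
  refine inv_mul_eq_one.1 (E.faith _ fun v => ?_)
  rw [mul_smul, inv_smul_eq_iff, E.up_smul]
  conv_lhs => rw [show v = ![v 0, v 1] from funext fun i => by fin_cases i <;> rfl, hgv]
  funext i
  fin_cases i
  · simp; linear_combination (hlin (v 1))
  · simp

theorem st_normalize_U {h u : Γ} (hh : h ∈ E.st) (hu : u ∈ E.U) : h * u * h⁻¹ ∈ E.U :=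
  E.fl_le_U (E.fl_conj hh (E.U_le_fl hu))

end Emb

end Cfsg.Lib.LocalEven.NaturalEmb
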